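import Mathlib.GroupTheory.FiniteAbelian.Basic
import Mathlib.GroupTheory.Exponent
import Mathlib.GroupTheory.Index
import Mathlib.Data.ZMod.Basic

/-! Elementary facts on abelian groups having a nonzero element contained in every nonzero
subgroup, and residual finiteness. -/

set_option autoImplicit false
universe u v

namespace K773.AbGrp

open DirectSum

/-- finite case -/
theorem exists_addEquiv_zmod {A : Type u} [AddCommGroup A] [Finite A]
    (a : A) (ha : a ≠ 0) (h : ∀ B : AddSubgroup A, B ≠ ⊥ → a ∈ B) :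
    ∃ p n : ℕ, p.Prime ∧ Nonempty (A ≃+ ZMod (p ^ n)) := by
  classical
  obtain ⟨ι, hι, p, hp, e, ⟨f⟩⟩ := AddCommGroup.equiv_directSum_zmod_of_finite A
  have hfa : f a ≠ 0 := by simpa using ha
  -- some index in the support
  obtain ⟨i, hi⟩ : ∃ i, (f a) i ≠ 0 := by
    by_contra hcon
    push Not at hcon
    exact hfa (DFinsupp.ext hcon)
  have hei : e i ≠ 0 := by
    intro h0
    apply hi
    have : Subsingleton (ZMod (p i ^ e i)) := by
      rw [h0, pow_zero]
      infer_instance
    exact Subsingleton.elim _ _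
  have hzero : ∀ j, j ≠ i → ∀ x : ZMod (p j ^ e j), x = 0 := by
    intro j hj x
    by_contra hx
    let B : AddSubgroup A := ((DirectSum.of (fun i => ZMod (p i ^ e i)) j).range).comap f.toAddMonoidHom
    have hB : B ≠ ⊥ := by
      intro hbot
      have hmem : f.symm (DirectSum.of (fun i => ZMod (p i ^ e i)) j x) ∈ B := by
        simp [B]
      rw [hbot, AddSubgroup.mem_bot] at hmem
      have h2 : DirectSum.of (fun i => ZMod (p i ^ e i)) j x = 0 := by
        simpa using hmem
      have h3 : (DirectSum.of (fun i => ZMod (p i ^ e i)) j x) j = 0 := by rw [h2]; rfl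
      rw [DirectSum.of_eq_same] at h3
      exact hx h3
    obtain ⟨y, hy⟩ := h B hB
    apply hi
    have h4 : f a = DirectSum.of (fun i => ZMod (p i ^ e i)) j y := hy.symm
    rw [h4, DirectSum.of_eq_of_ne _ _ _ (Ne.symm hj)]
  refine ⟨p i, e i, hp i, ⟨f.trans ?_⟩⟩
  refine AddEquiv.ofBijective (DirectSum.component ℤ ι (fun i => ZMod (p i ^ e i)) i).toAddMonoidHom ⟨?_, ?_⟩
  · rw [injective_iff_map_eq_zero]
    intro x hx
    refine DFinsupp.ext fun j => ?_
    by_cases hj : j = i
    · subst hj
      exact hx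
    · exact hzero j hj _
  · intro y
    refine ⟨DirectSum.of (fun i => ZMod (p i ^ e i)) i y, ?_⟩
    exact DirectSum.of_eq_same (β := fun i => ZMod (p i ^ e i)) i y

theorem finite_of_exponent {A : Type u} [AddCommGroup A]
    (hA : AddMonoid.exponent A ≠ 0) (a : A) (ha : a ≠ 0) (h : ∀ B : AddSubgroup A, B ≠ ⊥ → a ∈ B) :
    Finite A := by
  classical
  have htor : ∀ x : A, IsOfFinAddOrder x := by
    intro x
    rw [isOfFinAddOrder_iff_nsmul_eq_zero]
    exact ⟨AddMonoid.exponent A, Nat.pos_of_ne_zero hA, AddMonoid.exponent_nsmul_eq_zero x⟩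
  -- every finitely generated subgroup has at most `exponent A` elements
  have key : ∀ s : Finset A, s.card ≤ AddMonoid.exponent A := by
    intro s
    let H : AddSubgroup A := AddSubgroup.closure (insert a s : Set A)
    have haH : a ∈ H := AddSubgroup.subset_closure (by simp)
    have hfg : AddGroup.FG H := by
      rw [AddGroup.fg_iff_addSubgroup_fg]
      exact ⟨insert a s, by simp [H]⟩
    have hfinH : Finite H := by
      have := hfg
      apply AddCommGroup.finite_of_fg_isAddTorsion
      intro x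
      have := htor (x : A)
      rw [isOfFinAddOrder_iff_nsmul_eq_zero] at this ⊢
      obtain ⟨m, hm, hmx⟩ := this
      exact ⟨m, hm, Subtype.ext hmx⟩
    obtain ⟨p, n, hp, ⟨φ⟩⟩ := exists_addEquiv_zmod (A := H) ⟨a, haH⟩ (by
        intro h0
        exact ha (congrArg Subtype.val h0)) (by
      intro B hB
      have h1 : B.map H.subtype ≠ ⊥ := by
        intro hbot
        apply hB
        exact (AddSubgroup.map_eq_bot_iff_of_injective B H.subtype_injective).mp hbot
      have h2 := h _ h1
      rw [AddSubgroup.mem_map] at h2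
      obtain ⟨x, hx, hxa⟩ := h2
      have : x = ⟨a, haH⟩ := Subtype.ext hxa
      rwa [this] at hx)
    have hcard : Nat.card H = p ^ n := by
      rw [Nat.card_congr φ.toEquiv, Nat.card_zmod]
    have hexp : (p ^ n) ∣ AddMonoid.exponent A := by
      have h1 : addOrderOf (φ.symm 1) = p ^ n := by
        rw [AddEquiv.addOrderOf_eq, ZMod.addOrderOf_one]
      rw [← h1, ← AddSubgroup.addOrderOf_coe]
      exact AddMonoid.addOrder_dvd_exponent _
    have hle : s.card ≤ Nat.card H := by
      have := hfinH
      have : Fintype H := Fintype.ofFinite H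
      rw [Nat.card_eq_fintype_card]
      have : s ⊆ (Set.toFinset (H : Set A)) := by
        intro x hx
        rw [Set.mem_toFinset]
        exact AddSubgroup.subset_closure (by simp [hx])
      calc s.card ≤ (Set.toFinset (H : Set A)).card := Finset.card_le_card this
        _ = Fintype.card H := by
          rw [Set.toFinset_card]
          rfl
    calc s.card ≤ Nat.card H := hle
      _ = p ^ n := hcard
      _ ≤ _ := Nat.le_of_dvd (Nat.pos_of_ne_zero hA) hexp
  by_contra hinf
  rw [not_finite_iff_infinite] at hinf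
  obtain ⟨s, hs⟩ := Infinite.exists_subset_card_eq A (AddMonoid.exponent A + 1)
  have := key s
  omega

/-- Zorn: a subgroup maximal among those containing `N` and not containing `a`. -/
theorem exists_maximal_not_mem {A : Type u} [AddCommGroup A] (N : AddSubgroup A) (a : A)
    (ha : a ∉ N) :
    ∃ B : AddSubgroup A, N ≤ B ∧ a ∉ B ∧ ∀ C : AddSubgroup A, B < C → a ∈ C := by
  obtain ⟨B, hNB, hB⟩ := zorn_le_nonempty₀ {B : AddSubgroup A | a ∉ B} (by
    intro c hc hchain y hy
    refine ⟨sSup c, ?_, fun z hz => le_sSup hz⟩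
    intro hmem
    rw [AddSubgroup.mem_sSup_of_directedOn ⟨y, hy⟩ hchain.directedOn] at hmem
    obtain ⟨s, hs, has⟩ := hmem
    exact hc hs has) N ha
  refine ⟨B, hNB, hB.prop, fun C hC => ?_⟩
  by_contra haC
  exact absurd (hB.le_of_ge haC hC.le) (not_le_of_gt hC)

theorem quot_mem_every {A : Type u} [AddCommGroup A] {a : A} {B : AddSubgroup A}
    (hmax : ∀ C : AddSubgroup A, B < C → a ∈ C) (D : AddSubgroup (A ⧸ B)) (hD : D ≠ ⊥) :
    (QuotientAddGroup.mk a : A ⧸ B) ∈ D := by
  have h1 : B < D.comap (QuotientAddGroup.mk' B) := by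
    refine lt_of_le_of_ne ?_ ?_
    · intro b hb
      rw [AddSubgroup.mem_comap]
      have : (QuotientAddGroup.mk' B) b = 0 := (QuotientAddGroup.eq_zero_iff b).mpr hb
      rw [this]
      exact zero_mem _
    · intro heq
      apply hD
      rw [eq_bot_iff]
      intro x hx
      obtain ⟨y, rfl⟩ := QuotientAddGroup.mk_surjective x
      have : y ∈ D.comap (QuotientAddGroup.mk' B) := hx
      rw [← heq] at this
      rw [AddSubgroup.mem_bot]
      exact (QuotientAddGroup.eq_zero_iff y).mpr this
  exact hmax _ h1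

/-- An abelian group `A` with `a ∉ nA` has a finite-index subgroup containing `nA`, not `a`. -/
theorem exists_finiteIndex_of_not_mem_nsmul {A : Type u} [AddCommGroup A] (n : ℕ) (hn : 0 < n)
    (N : AddSubgroup A) (hN : ∀ x : A, n • x ∈ N) (a : A) (ha : a ∉ N) :
    ∃ B : AddSubgroup A, N ≤ B ∧ B.FiniteIndex ∧ a ∉ B := by
  obtain ⟨B, hNB, haB, hmax⟩ := exists_maximal_not_mem N a ha
  refine ⟨B, hNB, ?_, haB⟩
  have hfin : Finite (A ⧸ B) := by
    refine finite_of_exponent ?_ (QuotientAddGroup.mk a : A ⧸ B) ?_ (quot_mem_every hmax)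
    · rw [Ne, AddMonoid.exponent_eq_zero_iff]
      intro hne
      apply hne
      refine ⟨n, hn, fun x => ?_⟩
      obtain ⟨y, rfl⟩ := QuotientAddGroup.mk_surjective x
      rw [← QuotientAddGroup.mk_nsmul]
      exact (QuotientAddGroup.eq_zero_iff _).mpr (hNB (hN y))
    · intro h0
      exact haB ((QuotientAddGroup.eq_zero_iff _).mp h0)
  exact AddSubgroup.finiteIndex_of_finite_quotient

/-- Finitely generated abelian groups are residually finite. -/
theorem exists_finiteIndex_of_fg {A : Type u} [AddCommGroup A] [AddGroup.FG A] (a : A)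
    (ha : a ≠ 0) : ∃ B : AddSubgroup A, B.FiniteIndex ∧ a ∉ B := by
  obtain ⟨B, -, haB, hmax⟩ := exists_maximal_not_mem (⊥ : AddSubgroup A) a (by simpa using ha)
  refine ⟨B, ?_, haB⟩
  have hevery := quot_mem_every hmax
  set q : A ⧸ B := QuotientAddGroup.mk a with hq
  have hq0 : q ≠ 0 := by
    intro h0
    exact haB ((QuotientAddGroup.eq_zero_iff _).mp h0)
  have hfin : Finite (A ⧸ B) := by
    apply AddCommGroup.finite_of_fg_isAddTorsion
    intro x
    by_cases hx : x = 0
    · subst hx; exact IsOfFinAddOrder.zero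
    have h1 : q ∈ AddSubgroup.zmultiples x := hevery _ (by
      simpa using hx)
    obtain ⟨m, hm⟩ := AddSubgroup.mem_zmultiples_iff.mp h1
    by_cases h2 : (2 * m) • x = 0
    · rw [isOfFinAddOrder_iff_zsmul_eq_zero]
      refine ⟨2 * m, ?_, h2⟩
      intro h0
      have : m = 0 := by omega
      rw [this, zero_smul] at hm
      exact hq0 hm.symm
    · have h3 : q ∈ AddSubgroup.zmultiples ((2 * m) • x) := hevery _ (by simpa using h2)
      obtain ⟨k, hk⟩ := AddSubgroup.mem_zmultiples_iff.mp h3
      rw [isOfFinAddOrder_iff_zsmul_eq_zero]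
      refine ⟨k * (2 * m) - m, ?_, ?_⟩
      · intro h0
        have h5 : m * (2 * k - 1) = 0 := by linarith
        rcases mul_eq_zero.mp h5 with h6 | h6
        · rw [h6, zero_smul] at hm
          exact hq0 hm.symm
        · omega
      · rw [sub_smul, mul_smul, hk, hm, sub_self]
  exact AddSubgroup.finiteIndex_of_finite_quotient

/-- Finitely many nonzero elements of a residually finite abelian group are missed by one
finite-index subgroup. -/
theorem exists_finiteIndex_disjoint {A : Type u} [AddCommGroup A]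
    (hres : ∀ a : A, a ≠ 0 → ∃ B : AddSubgroup A, B.FiniteIndex ∧ a ∉ B)
    (s : Set A) (hs : s.Finite) :
    ∃ B : AddSubgroup A, B.FiniteIndex ∧ ∀ a ∈ s, a ∈ B → a = 0 := by
  classical
  induction s, hs using Set.Finite.induction_on with
  | empty => exact ⟨⊤, inferInstance, by simp⟩
  | @insert b t _ _ ih =>
    obtain ⟨B, hB, hBt⟩ := ih
    by_cases hb : b = 0
    · refine ⟨B, hB, ?_⟩
      intro a ha haB
      rcases ha with rfl | ha
      · exact hb
      · exact hBt a ha haB
    · obtain ⟨C, hC, hbC⟩ := hres b hb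
      have := hB
      have := hC
      refine ⟨B ⊓ C, inferInstance, ?_⟩
      intro a ha haB
      rcases ha with rfl | ha
      · exact absurd haB.2 hbC
      · exact hBt a ha haB.1

/-- no divisible elements in an extension -/
theorem divisible_eq_zero {A' : Type*} {A : Type*} {A'' : Type*} [AddCommGroup A'] [AddCommGroup A]
    [AddCommGroup A''] (f : A' →+ A) (g : A →+ A'') (hf : Function.Injective f)
    (hfg : g.ker = f.range)
    (h' : ∀ x : A', (∀ n : ℕ, 0 < n → ∃ y : A', n • y = x) → x = 0)
    (h'' : ∀ x : A'', (∀ n : ℕ, 0 < n → ∃ y : A'', n • y = x) → x = 0)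
    (htors : ∃ N : ℕ, 0 < N ∧ ∀ x : A'', IsOfFinAddOrder x → N • x = 0)
    (x : A) (hx : ∀ n : ℕ, 0 < n → ∃ y : A, n • y = x) : x = 0 := by
  have hgx : g x = 0 := by
    apply h''
    intro n hn
    obtain ⟨y, hy⟩ := hx n hn
    exact ⟨g y, by rw [← map_nsmul, hy]⟩
  have hxf : x ∈ f.range := by rw [← hfg]; exact hgx
  obtain ⟨x', rfl⟩ := hxf
  obtain ⟨N, hN, htors⟩ := htors
  have : x' = 0 := by
    apply h'
    intro n hn
    obtain ⟨y, hy⟩ := hx (n * N) (Nat.mul_pos hn hN)
    have h1 : IsOfFinAddOrder (g y) := by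
      rw [isOfFinAddOrder_iff_nsmul_eq_zero]
      refine ⟨n * N, Nat.mul_pos hn hN, ?_⟩
      rw [← map_nsmul, hy, hgx]
    have h2 : N • y ∈ g.ker := by
      rw [AddMonoidHom.mem_ker, map_nsmul]
      exact htors _ h1
    rw [hfg] at h2
    obtain ⟨y', hy'⟩ := h2
    refine ⟨y', hf ?_⟩
    rw [map_nsmul, hy', ← mul_smul, hy]
  rw [this, map_zero]

end K773.AbGrp
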