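import Groth.Agent.ProCompl.K773.Top
import Groth.Prelude.Def_W4c61motalbdualityCompl
import Mathlib.Topology.Compactness.Compact
import Mathlib.Topology.Separation.Basic

/-! The completion with respect to open subgroups of finite index: the range of the map induced by a
continuous homomorphism is closed. -/

set_option autoImplicit false
universe u v w

namespace K773.Compl

open W4c61motalbduality

variable {A : Type u} [AddCommGroup A] [TopologicalSpace A]
variable {B : Type v} [AddCommGroup B] [TopologicalSpace B]

/-- intersection of two open finite-index subgroups -/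
def inf (U V : OpenFI A) : OpenFI A where
  toAddSubgroup := U.toAddSubgroup ⊓ V.toAddSubgroup
  isOpen' := U.isOpen'.inter V.isOpen'
  finiteIndex' := by
    have := U.finiteIndex'
    have := V.finiteIndex'
    infer_instance

theorem inf_le_left (U V : OpenFI A) : (inf U V).toAddSubgroup ≤ U.toAddSubgroup :=
  _root_.inf_le_left

theorem inf_le_right (U V : OpenFI A) : (inf U V).toAddSubgroup ≤ V.toAddSubgroup :=
  _root_.inf_le_right

/-- the top one -/
def top : OpenFI A where
  toAddSubgroup := ⊤
  isOpen' := isOpen_univ
  finiteIndex' := inferInstance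

theorem mem_range_map (f : A →+ B) (hf : Continuous f) (y : FICompl B)
    (hy : ∀ V : OpenFI B, ∃ a : A, (QuotientAddGroup.mk (f a) : B ⧸ V.toAddSubgroup) = y.1 V) :
    y ∈ (FICompl.map f hf).range := by
  classical
  letI top (U : OpenFI A) : TopologicalSpace (A ⧸ U.toAddSubgroup) := ⊥
  have hdisc (U : OpenFI A) : DiscreteTopology (A ⧸ U.toAddSubgroup) := ⟨rfl⟩
  have hfin (U : OpenFI A) : Finite (A ⧸ U.toAddSubgroup) := by
    have := U.finiteIndex'
    exact AddSubgroup.finite_quotient_of_finiteIndex
  have hcomp (U : OpenFI A) : CompactSpace (A ⧸ U.toAddSubgroup) := Finite.compactSpace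
  let X : Type u := (U : OpenFI A) → A ⧸ U.toAddSubgroup
  let E : OpenFI B → Set X := fun V => {x | x ∈ FICompl A ∧
    QuotientAddGroup.map (V.comap f hf).toAddSubgroup V.toAddSubgroup f
      (V.comap_le f) (x (V.comap f hf)) = y.1 V}
  have hFI : IsClosed {x : X | x ∈ FICompl A} := by
    have : {x : X | x ∈ FICompl A} = ⋂ (U : OpenFI A) (V : OpenFI A)
      (h : U.toAddSubgroup ≤ V.toAddSubgroup),
        {x : X | QuotientAddGroup.map U.toAddSubgroup V.toAddSubgroup (AddMonoidHom.id A) h (x U)
          = x V} := by
      ext x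
      simp only [Set.mem_setOf_eq, Set.mem_iInter]
      rfl
    rw [this]
    refine isClosed_iInter fun U => isClosed_iInter fun V => isClosed_iInter fun h => ?_
    refine isClosed_eq ?_ (continuous_apply V)
    exact continuous_of_discreteTopology.comp (continuous_apply U)
  have hE : ∀ V, IsClosed (E V) := by
    intro V
    refine hFI.inter ?_
    have hc : Continuous fun x : X => x (V.comap f hf) := continuous_apply _
    exact (isClosed_discrete {q : A ⧸ (V.comap f hf).toAddSubgroup |
      QuotientAddGroup.map (V.comap f hf).toAddSubgroup V.toAddSubgroup f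
      (V.comap_le f) q = y.1 V}).preimage hc
  haveI : Nonempty (OpenFI B) := ⟨Compl.top⟩
  have hne : (⋂ V, E V).Nonempty := by
    refine IsCompact.nonempty_iInter_of_directed_nonempty_isCompact_isClosed E ?_ ?_
      (fun V => (hE V).isCompact) hE
    · intro V W
      refine ⟨inf V W, ?_, ?_⟩
      · rintro x ⟨hx1, hx2⟩
        refine ⟨hx1, ?_⟩
        have h1 := hx1 ((inf V W).comap f hf) (V.comap f hf)
          (OpenFI.comap_mono f hf (inf_le_left V W))
        have h2 := y.2 (inf V W) V (inf_le_left V W)
        rw [← h1, ← h2, ← hx2]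
        obtain ⟨a, ha⟩ := QuotientAddGroup.mk_surjective (x ((inf V W).comap f hf))
        rw [← ha]
        rfl
      · rintro x ⟨hx1, hx2⟩
        refine ⟨hx1, ?_⟩
        have h1 := hx1 ((inf V W).comap f hf) (W.comap f hf)
          (OpenFI.comap_mono f hf (inf_le_right V W))
        have h2 := y.2 (inf V W) W (inf_le_right V W)
        rw [← h1, ← h2, ← hx2]
        obtain ⟨a, ha⟩ := QuotientAddGroup.mk_surjective (x ((inf V W).comap f hf))
        rw [← ha]
        rfl
    · intro V
      obtain ⟨a, ha⟩ := hy V
      exact ⟨(toFICompl A a).1, (toFICompl A a).2, ha⟩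
  obtain ⟨x, hx⟩ := hne
  rw [Set.mem_iInter] at hx
  refine ⟨⟨x, (hx Compl.top).1⟩, ?_⟩
  apply Subtype.ext
  funext V
  exact (hx V).2

theorem rightExact {C : Type w} [AddCommGroup C] [TopologicalSpace C]
    [IsTopologicalAddGroup B] [IsTopologicalAddGroup C]
    (i : A →+ B) (hi : Continuous i) (p : B →+ C) (hp : Continuous p)
    (hpo : IsOpenMap p) (hps : Function.Surjective p) (hex : p.ker = i.range) :
    Function.Surjective (FICompl.map p hp) ∧ (FICompl.map p hp).ker = (FICompl.map i hi).range := by
  constructor
  · intro z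
    apply mem_range_map p hp z
    intro V
    obtain ⟨c, hc⟩ := QuotientAddGroup.mk_surjective (z.1 V)
    obtain ⟨b, rfl⟩ := hps c
    exact ⟨b, hc⟩
  · apply le_antisymm
    · intro y hy
      apply mem_range_map i hi y
      intro V
      -- the image of `V` in `C`
      have hidx : (V.toAddSubgroup.map p).FiniteIndex := by
        have := V.finiteIndex'
        refine ⟨?_⟩
        intro h0
        have h1 := AddSubgroup.index_map_dvd V.toAddSubgroup hps
        rw [h0, zero_dvd_iff] at h1
        exact AddSubgroup.FiniteIndex.index_ne_zero h1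
      let PV : OpenFI C := ⟨V.toAddSubgroup.map p, by
        have := hpo _ V.isOpen'
        simpa using this, hidx⟩
      have hle : V.toAddSubgroup ≤ (PV.comap p hp).toAddSubgroup := by
        intro v hv
        exact ⟨v, hv, rfl⟩
      have h1 := y.2 V (PV.comap p hp) hle
      obtain ⟨b, hb⟩ := QuotientAddGroup.mk_surjective (y.1 V)
      have h2 : (FICompl.map p hp y).1 PV = 0 := by
        rw [AddMonoidHom.mem_ker] at hy
        rw [hy]
        rfl
      have h3 : (QuotientAddGroup.mk (p b) : C ⧸ PV.toAddSubgroup) = 0 := by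
        rw [← h2]
        change _ = QuotientAddGroup.map (PV.comap p hp).toAddSubgroup PV.toAddSubgroup p
          (PV.comap_le p) (y.1 (PV.comap p hp))
        rw [← h1, ← hb]
        rfl
      rw [QuotientAddGroup.eq_zero_iff] at h3
      obtain ⟨v, hv, hvb⟩ := h3
      have h4 : b - v ∈ i.range := by
        rw [← hex, AddMonoidHom.mem_ker, map_sub, hvb, sub_self]
      obtain ⟨a, ha⟩ := h4
      refine ⟨a, ?_⟩
      rw [← hb, ha, QuotientAddGroup.eq]
      have : -(b - v) + b = v := by abel
      rw [this]
      exact hv
    · rintro _ ⟨x, rfl⟩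
      rw [AddMonoidHom.mem_ker]
      apply Subtype.ext
      funext V
      obtain ⟨a, ha⟩ := QuotientAddGroup.mk_surjective (x.1 ((V.comap p hp).comap i hi))
      change QuotientAddGroup.map (V.comap p hp).toAddSubgroup V.toAddSubgroup p
          (V.comap_le p) (QuotientAddGroup.map ((V.comap p hp).comap i hi).toAddSubgroup
            (V.comap p hp).toAddSubgroup i
          ((V.comap p hp).comap_le i) (x.1 ((V.comap p hp).comap i hi))) = 0
      rw [← ha]
      change QuotientAddGroup.mk (p (i a)) = (0 : C ⧸ V.toAddSubgroup)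
      have : p (i a) = 0 := by
        have : i a ∈ p.ker := by rw [hex]; exact ⟨a, rfl⟩
        exact this
      rw [this]
      rfl

theorem map_injective (f : A →+ B) (hf : Continuous f)
    (h : ∀ W : OpenFI A, ∃ V : OpenFI B, V.toAddSubgroup.comap f ≤ W.toAddSubgroup) :
    Function.Injective (FICompl.map f hf) := by
  rw [injective_iff_map_eq_zero]
  intro x hx
  apply Subtype.ext
  funext W
  obtain ⟨V, hV⟩ := h W
  have h1 := x.2 (V.comap f hf) W hV
  obtain ⟨a, ha⟩ := QuotientAddGroup.mk_surjective (x.1 (V.comap f hf))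
  have h2 : (FICompl.map f hf x).1 V = 0 := by
    rw [hx]
    rfl
  have h3 : (QuotientAddGroup.mk (f a) : B ⧸ V.toAddSubgroup) = 0 := by
    rw [← h2]
    change _ = QuotientAddGroup.map (V.comap f hf).toAddSubgroup V.toAddSubgroup f
          (V.comap_le f) (x.1 (V.comap f hf))
    rw [← ha]
    rfl
  rw [QuotientAddGroup.eq_zero_iff] at h3
  rw [← h1, ← ha]
  change (QuotientAddGroup.mk a : A ⧸ W.toAddSubgroup) = 0
  rw [QuotientAddGroup.eq_zero_iff]
  exact hV h3

end K773.Compl
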