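import Groth.Agent.ProCompl.K773.AbGrp
import Mathlib.Topology.Algebra.Category.ProfiniteGrp.Completion

/-! Profinite completions of discrete groups: coordinates of the induced map, closure of subsets. -/

set_option autoImplicit false
universe u

namespace K773.Profin

open CategoryTheory ProfiniteGrp ProfiniteGrp.ProfiniteCompletion

variable {G H : Type u} [Group G] [Group H]

/-- coordinate of a point of the completion -/
def coord (K : FiniteIndexNormalSubgroup G) (x : profiniteCompletion.obj (GrpCat.of G)) :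
    G ⧸ K.toSubgroup := x.1 K

/-- the map on completions induced by `f` -/
noncomputable def mp (f : G →* H) : profiniteCompletion.obj (GrpCat.of G) →
    profiniteCompletion.obj (GrpCat.of H) :=
  (profiniteCompletion.map (GrpCat.ofHom f)).hom

/-- the natural map -/
def et (g : G) : profiniteCompletion.obj (GrpCat.of G) := etaFn (GrpCat.of G) g

theorem coord_et (K : FiniteIndexNormalSubgroup G) (g : G) :
    coord K (et g) = QuotientGroup.mk g := rfl

theorem denseRange_et : DenseRange (et : G → profiniteCompletion.obj (GrpCat.of G)) :=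
  ProfiniteCompletion.denseRange (GrpCat.of G)

theorem mp_et (f : G →* H) (g : G) : mp f (et g) = et (f g) := by
  have h := lift_eta (G := GrpCat.of G) (P := profiniteCompletion.obj (GrpCat.of H))
    (GrpCat.ofHom f ≫ eta (GrpCat.of H))
  exact ConcreteCategory.congr_hom h g

theorem continuous_mp (f : G →* H) : Continuous (mp f) :=
  (profiniteCompletion.map (GrpCat.ofHom f)).hom.continuous_toFun

instance topQ (K : FiniteIndexNormalSubgroup G) : TopologicalSpace (G ⧸ K.toSubgroup) := ⊥

instance (K : FiniteIndexNormalSubgroup G) : DiscreteTopology (G ⧸ K.toSubgroup) := ⟨rfl⟩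

theorem continuous_coord (K : FiniteIndexNormalSubgroup G) : Continuous (coord K) := by
  have h1 : Continuous (fun x : profiniteCompletion.obj (GrpCat.of G) => x.1) :=
    continuous_subtype_val
  exact (continuous_apply K).comp h1

theorem ext_coord {x y : profiniteCompletion.obj (GrpCat.of G)}
    (h : ∀ K : FiniteIndexNormalSubgroup G, coord K x = coord K y) : x = y :=
  Subtype.ext (funext h)

theorem map_coord {K L : FiniteIndexNormalSubgroup G} (h : K ≤ L)
    (x : profiniteCompletion.obj (GrpCat.of G)) :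
    QuotientGroup.map K.toSubgroup L.toSubgroup (MonoidHom.id G) h (coord K x) = coord L x :=
  x.2 (homOfLE h)

theorem coord_mp (f : G →* H) (K : FiniteIndexNormalSubgroup H)
    (x : profiniteCompletion.obj (GrpCat.of G)) :
    coord K (mp f x) = QuotientGroup.map (K.comap f).toSubgroup K.toSubgroup f le_rfl
      (coord (K.comap f) x) := by
  have h1 : Continuous fun x => coord K (mp f x) := (continuous_coord K).comp (continuous_mp f)
  have h2 : Continuous fun x => QuotientGroup.map (K.comap f).toSubgroup K.toSubgroup f le_rfl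
      (coord (K.comap f) x) := continuous_of_discreteTopology.comp (continuous_coord _)
  refine congrFun (denseRange_et.equalizer h1 h2 ?_) x
  funext g
  simp only [Function.comp_apply, mp_et, coord_et]
  rfl

theorem coord_one (K : FiniteIndexNormalSubgroup G) :
    coord K (1 : profiniteCompletion.obj (GrpCat.of G)) = 1 := rfl

theorem mp_injective (f : G →* H)
    (h : ∀ W : FiniteIndexNormalSubgroup G, ∃ V : FiniteIndexNormalSubgroup H, V.comap f ≤ W) :
    Function.Injective (profiniteCompletion.map (GrpCat.ofHom f)).hom := by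
  rw [injective_iff_map_eq_one]
  intro x hx
  apply ext_coord
  intro W
  obtain ⟨V, hV⟩ := h W
  have h1 := map_coord hV x
  obtain ⟨a, ha⟩ := QuotientGroup.mk_surjective (coord (V.comap f) x)
  have h2 : coord V (mp f x) = 1 := by
    have : mp f x = 1 := hx
    rw [this, coord_one]
  rw [coord_mp, ← ha] at h2
  have h3 : (QuotientGroup.mk (f a) : H ⧸ V.toSubgroup) = 1 := h2
  rw [QuotientGroup.eq_one_iff] at h3
  rw [← h1, ← ha]
  change (QuotientGroup.mk a : G ⧸ W.toSubgroup) = 1
  rw [QuotientGroup.eq_one_iff]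
  exact hV h3

/-- Closure of a subset can be tested on single coordinates. -/
theorem mem_closure_of (S : Set (profiniteCompletion.obj (GrpCat.of G)))
    (y : profiniteCompletion.obj (GrpCat.of G))
    (h : ∀ K : FiniteIndexNormalSubgroup G, ∃ s ∈ S, coord K s = coord K y) : y ∈ closure S := by
  rw [mem_closure_iff]
  rintro U ⟨s, hsO, rfl⟩ hy
  have hy' : y.1 ∈ s := hy
  rcases (isOpen_pi_iff.mp hsO) _ hy' with ⟨J, fJ, hJ1, hJ2⟩
  let M : Subgroup G := iInf fun (j : J) => j.val.toSubgroup
  have hM : M.Normal := Subgroup.normal_iInf_normal fun j => inferInstance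
  have hMFinite : M.FiniteIndex := by
    apply Subgroup.finiteIndex_iInf
    infer_instance
  let m : FiniteIndexNormalSubgroup G := { toSubgroup := M }
  obtain ⟨t, ht, hty⟩ := h m
  refine ⟨t, ?_, ht⟩
  change t.1 ∈ s
  apply hJ2
  intro a ha
  have hma : m ≤ a := iInf_le (fun (j : J) => (j.val.toSubgroup)) ⟨a, ha⟩
  have h1 : t.1 a = y.1 a := by
    change coord a t = coord a y
    rw [← map_coord hma t, ← map_coord hma y, hty]
  rw [h1]
  exact (hJ1 a ha).2

theorem isClosed_range_mp (f : G →* H) : IsClosed (Set.range (mp f)) :=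
  (isCompact_range (continuous_mp f)).isClosed

theorem mem_range_mp (f : G →* H) (y : profiniteCompletion.obj (GrpCat.of H))
    (hy : ∀ K : FiniteIndexNormalSubgroup H, ∃ g : G,
      (QuotientGroup.mk (f g) : H ⧸ K.toSubgroup) = coord K y) :
    y ∈ Set.range (mp f) := by
  rw [← (isClosed_range_mp f).closure_eq]
  apply mem_closure_of
  intro K
  obtain ⟨g, hg⟩ := hy K
  refine ⟨mp f (et g), ⟨_, rfl⟩, ?_⟩
  rw [mp_et, coord_et, hg]

theorem mp_surjective (f : G →* H) (hf : Function.Surjective f) :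
    Function.Surjective (profiniteCompletion.map (GrpCat.ofHom f)).hom := by
  intro y
  apply mem_range_mp f y
  intro K
  obtain ⟨h, hh⟩ := QuotientGroup.mk_surjective (coord K y)
  obtain ⟨g, rfl⟩ := hf h
  exact ⟨g, hh⟩

theorem rightExact {A : Type u} [CommGroup A] (A' : Subgroup A) :
    Function.Surjective
      (ProfiniteGrp.profiniteCompletion.map (GrpCat.ofHom (QuotientGroup.mk' A'))).hom ∧
      (ProfiniteGrp.profiniteCompletion.map (GrpCat.ofHom (QuotientGroup.mk' A'))).hom.toMonoidHom.ker =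
        (ProfiniteGrp.profiniteCompletion.map (GrpCat.ofHom A'.subtype)).hom.toMonoidHom.range := by
  refine ⟨mp_surjective _ (QuotientGroup.mk'_surjective A'), le_antisymm ?_ ?_⟩
  · intro y hy
    have hy : mp (QuotientGroup.mk' A') y = 1 := hy
    apply mem_range_mp A'.subtype y
    intro K
    obtain ⟨a, ha⟩ := QuotientGroup.mk_surjective (coord K y)
    have hidx : (K.toSubgroup.map (QuotientGroup.mk' A')).FiniteIndex := by
      refine ⟨?_⟩
      intro h0
      have h1 := Subgroup.index_map_dvd K.toSubgroup (QuotientGroup.mk'_surjective A')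
      rw [h0, zero_dvd_iff] at h1
      exact Subgroup.FiniteIndex.index_ne_zero h1
    have hnor : (K.toSubgroup.map (QuotientGroup.mk' A')).Normal := inferInstance
    let L : FiniteIndexNormalSubgroup (A ⧸ A') := ⟨K.toSubgroup.map (QuotientGroup.mk' A'), hnor, hidx⟩
    have hKL : K ≤ L.comap (QuotientGroup.mk' A') := by
      intro k hk
      exact ⟨k, hk, rfl⟩
    have h2 : coord L (mp (QuotientGroup.mk' A') y) = 1 := by
      rw [hy, coord_one]
    rw [coord_mp, ← map_coord hKL, ← ha] at h2
    have h3 : (QuotientGroup.mk (QuotientGroup.mk' A' a) : (A ⧸ A') ⧸ L.toSubgroup) = 1 := h2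
    rw [QuotientGroup.eq_one_iff] at h3
    obtain ⟨k, hk, hka⟩ := h3
    have h4 : k⁻¹ * a ∈ A' := by
      rw [← QuotientGroup.eq]
      exact hka
    refine ⟨⟨k⁻¹ * a, h4⟩, ?_⟩
    rw [← ha]
    change (QuotientGroup.mk (k⁻¹ * a) : A ⧸ K.toSubgroup) = _
    rw [QuotientGroup.eq]
    have : (k⁻¹ * a)⁻¹ * a = k := by
      rw [mul_inv_rev, inv_inv, mul_comm a⁻¹ k, mul_assoc, inv_mul_cancel, mul_one]
    rw [this]
    exact hk
  · rintro _ ⟨x, rfl⟩
    change mp (QuotientGroup.mk' A') (mp A'.subtype x) = 1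
    apply ext_coord
    intro K
    rw [coord_mp, coord_mp, coord_one]
    obtain ⟨a, ha⟩ := QuotientGroup.mk_surjective
      (coord ((K.comap (QuotientGroup.mk' A')).comap A'.subtype) x)
    rw [← ha]
    change (QuotientGroup.mk (QuotientGroup.mk' A' (a : A)) : (A ⧸ A') ⧸ K.toSubgroup) = 1
    have : QuotientGroup.mk' A' (a : A) = 1 := (QuotientGroup.eq_one_iff _).mpr a.2
    rw [this]
    rfl

/-- additive form of the separation needed for injectivity -/
theorem exists_sep {A : Type u} [AddCommGroup A] (A' : AddSubgroup A)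
    (hdiv : ∀ x : A ⧸ A', (∀ n : ℕ, 0 < n → ∃ y : A ⧸ A', n • y = x) → x = 0)
    (htors : ∃ N : ℕ, 0 < N ∧ ∀ x : A ⧸ A', IsOfFinAddOrder x → N • x = 0)
    (K : AddSubgroup A) (hKA : K ≤ A') (hK : (K.addSubgroupOf A').FiniteIndex) :
    ∃ V : AddSubgroup A, V.FiniteIndex ∧ V ⊓ A' ≤ K := by
  classical
  have hfin : Finite (A' ⧸ (K.addSubgroupOf A')) := AddSubgroup.finite_quotient_of_finiteIndex
  let f : A' ⧸ (K.addSubgroupOf A') →+ A ⧸ K := QuotientAddGroup.map _ _ A'.subtype le_rfl
  let g : A ⧸ K →+ A ⧸ A' := QuotientAddGroup.map _ _ (AddMonoidHom.id A) hKA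
  have hf : Function.Injective f := by
    rw [injective_iff_map_eq_zero]
    intro x hx
    obtain ⟨a, rfl⟩ := QuotientAddGroup.mk_surjective x
    have : (a : A) ∈ K := (QuotientAddGroup.eq_zero_iff _).mp hx
    exact (QuotientAddGroup.eq_zero_iff _).mpr this
  have hfg : g.ker = f.range := by
    apply le_antisymm
    · intro x hx
      obtain ⟨a, rfl⟩ := QuotientAddGroup.mk_surjective x
      have : a ∈ A' := (QuotientAddGroup.eq_zero_iff _).mp hx
      exact ⟨QuotientAddGroup.mk ⟨a, this⟩, rfl⟩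
    · rintro _ ⟨x, rfl⟩
      obtain ⟨a, rfl⟩ := QuotientAddGroup.mk_surjective x
      exact (QuotientAddGroup.eq_zero_iff _).mpr a.2
  have hnodiv : ∀ x : A ⧸ K, (∀ n : ℕ, 0 < n → ∃ y : A ⧸ K, n • y = x) → x = 0 := by
    intro x hx
    refine K773.AbGrp.divisible_eq_zero f g hf hfg ?_ hdiv htors x hx
    intro z hz
    obtain ⟨y, hy⟩ := hz (Nat.card (A' ⧸ (K.addSubgroupOf A'))) Nat.card_pos
    rw [← hy]
    exact card_nsmul_eq_zero'
  have hres : ∀ x : A ⧸ K, x ≠ 0 → ∃ B : AddSubgroup (A ⧸ K), B.FiniteIndex ∧ x ∉ B := by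
    intro x hx
    have : ¬ (∀ n : ℕ, 0 < n → ∃ y : A ⧸ K, n • y = x) := fun h => hx (hnodiv x h)
    push Not at this
    obtain ⟨n, hn, hnx⟩ := this
    obtain ⟨B, -, hB, hxB⟩ := K773.AbGrp.exists_finiteIndex_of_not_mem_nsmul n hn
      (nsmulAddMonoidHom (α := A ⧸ K) n).range (fun y => ⟨y, rfl⟩) x (by
        rintro ⟨y, hy⟩
        exact hnx y hy)
    exact ⟨B, hB, hxB⟩
  obtain ⟨B, hB, hBs⟩ := K773.AbGrp.exists_finiteIndex_disjoint hres (Set.range f)
    (Set.finite_range f)
  refine ⟨B.comap (QuotientAddGroup.mk' K), ?_, ?_⟩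
  · refine ⟨?_⟩
    rw [AddSubgroup.index_comap]
    have := hB
    exact AddSubgroup.FiniteIndex.index_ne_zero
  · rintro a ⟨ha, ha'⟩
    have h1 : (QuotientAddGroup.mk a : A ⧸ K) = 0 :=
      hBs _ ⟨QuotientAddGroup.mk ⟨a, ha'⟩, rfl⟩ ha
    exact (QuotientAddGroup.eq_zero_iff _).mp h1

theorem injective_of_quotient {A : Type u} [CommGroup A] (A' : Subgroup A)
    (hdiv : ∀ x : A ⧸ A', (∀ n : ℕ, 0 < n → ∃ y : A ⧸ A', y ^ n = x) → x = 1)
    (htors : ∃ N : ℕ, 0 < N ∧ ∀ x : A ⧸ A', IsOfFinOrder x → x ^ N = 1) :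
    Function.Injective (ProfiniteGrp.profiniteCompletion.map (GrpCat.ofHom A'.subtype)).hom := by
  apply mp_injective
  intro W
  -- translate to the additive notation
  let K : Subgroup A := W.toSubgroup.map A'.subtype
  have hKA : K ≤ A' := by
    rintro _ ⟨x, -, rfl⟩
    exact x.2
  have hKW : K.subgroupOf A' = W.toSubgroup := by
    ext x
    simp [K, Subgroup.mem_subgroupOf]
  have hKi : (K.subgroupOf A').FiniteIndex := by
    rw [hKW]
    infer_instance
  obtain ⟨V, hV, hVK⟩ := exists_sep (A := Additive A) (Subgroup.toAddSubgroup A')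
    (fun x hx => hdiv x hx) ⟨htors.choose, htors.choose_spec.1, fun x hx =>
      htors.choose_spec.2 x hx⟩ (Subgroup.toAddSubgroup K) hKA ⟨hKi.index_ne_zero⟩
  have hV' : (AddSubgroup.toSubgroup' V).FiniteIndex := ⟨hV.index_ne_zero⟩
  refine ⟨⟨AddSubgroup.toSubgroup' V, inferInstance, hV'⟩, ?_⟩
  intro x hx
  have h1 : (x : A) ∈ K := hVK ⟨hx, x.2⟩
  have h2 : x ∈ K.subgroupOf A' := h1
  rw [hKW] at h2
  exact h2

end K773.Profin
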