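import Groth.Agent.ProCompl.K773.AbGrp
import Mathlib.Topology.Algebra.OpenSubgroup
import Mathlib.Topology.Algebra.Group.Quotient
import Mathlib.Topology.Separation.Profinite
import Mathlib.Algebra.Module.CharacterModule

/-! Van Dantzig's theorem for locally compact totally disconnected abelian groups, extension
of characters with values in `ℚ/ℤ`, compactly generated groups. -/

set_option autoImplicit false
universe u v

namespace K773.Top

open Topology Filter Set
open scoped Pointwise

section VanDantzig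

variable {G : Type u} [AddCommGroup G] [TopologicalSpace G] [IsTopologicalAddGroup G]

theorem exists_add_subset {W : Set G} (hWc : IsCompact W) (hWo : IsOpen W) :
    ∃ T ∈ 𝓝 (0 : G), W + T ⊆ W := by
  apply hWc.induction_on (p := fun S ↦ ∃ T ∈ 𝓝 (0 : G), S + T ⊆ W)
    ⟨Set.univ, by simp only [univ_mem, empty_add, empty_subset, and_self]⟩
    (fun _ _ huv ⟨T, hT, mem⟩ ↦ ⟨T, hT, (add_subset_add_right huv).trans mem⟩)
    fun U V ⟨T₁, hT₁, mem1⟩ ⟨T₂, hT₂, mem2⟩ ↦ ⟨T₁ ∩ T₂, inter_mem hT₁ hT₂, by
      rw [union_add]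
      exact union_subset (add_subset_add_left inter_subset_left |>.trans mem1)
        (add_subset_add_left inter_subset_right |>.trans mem2) ⟩
  intro x memW
  have : (x, 0) ∈ (fun p : G × G ↦ p.1 + p.2) ⁻¹' W := by simp [memW]
  rcases isOpen_prod_iff.mp (continuous_add.isOpen_preimage W <| hWo) x 0 this with
    ⟨U, V, Uopen, Vopen, xmemU, onememV, prodsub⟩
  have h6 : U + V ⊆ W := add_subset_iff.mpr (fun _ hx _ hy ↦ prodsub (mk_mem_prod hx hy))
  exact ⟨U ∩ W, ⟨U, Uopen.mem_nhds xmemU, W, fun _ a ↦ a, rfl⟩,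
    V, IsOpen.mem_nhds Vopen onememV, fun _ a ↦ h6 ((add_subset_add_right inter_subset_left) a)⟩

/-- A compact open neighbourhood of `0` contains a compact open subgroup. -/
theorem exists_openAddSubgroup_subset_compact {W : Set G} (hWc : IsCompact W) (hWo : IsOpen W)
    (h0 : (0 : G) ∈ W) :
    ∃ H : AddSubgroup G, IsOpen (H : Set G) ∧ IsCompact (H : Set G) ∧ (H : Set G) ⊆ W := by
  obtain ⟨T, hT, hWT⟩ := exists_add_subset hWc hWo
  let H : AddSubgroup G :=
    { carrier := {h | ∀ w, w ∈ W ↔ w + h ∈ W}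
      zero_mem' := by intro w; simp
      add_mem' := by
        intro a b ha hb w
        rw [← add_assoc]
        exact (ha w).trans (hb (w + a))
      neg_mem' := by
        intro a ha w
        have := ha (w + -a)
        rw [neg_add_cancel_right] at this
        exact this.symm }
  have hHW : (H : Set G) ⊆ W := by
    intro h hh
    have := (hh 0).mp h0
    rwa [zero_add] at this
  have hopen : IsOpen (H : Set G) := by
    apply AddSubgroup.isOpen_of_mem_nhds H (g := 0)
    have hT' : -T ∈ 𝓝 (0 : G) := by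
      have := neg_mem_nhds_zero G hT
      exact this
    filter_upwards [inter_mem hT hT'] with t ht
    intro w
    constructor
    · intro hw
      exact hWT (Set.add_mem_add hw ht.1)
    · intro hw
      have : w + t + (-t) ∈ W := hWT (Set.add_mem_add hw (by simpa using ht.2))
      rwa [add_neg_cancel_right] at this
  refine ⟨H, hopen, ?_, hHW⟩
  exact hWc.of_isClosed_subset (H.isClosed_of_isOpen hopen) hHW

/-- Van Dantzig. -/
theorem exists_compact_openAddSubgroup [T2Space G] [LocallyCompactSpace G]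
    [TotallyDisconnectedSpace G] {O : Set G} (hO : O ∈ 𝓝 (0 : G)) :
    ∃ H : AddSubgroup G, IsOpen (H : Set G) ∧ IsCompact (H : Set G) ∧ (H : Set G) ⊆ O := by
  obtain ⟨K, hK, hKO, hKc⟩ := local_compact_nhds hO
  have hb := loc_compact_Haus_tot_disc_of_zero_dim (H := G)
  obtain ⟨W, hW, h0W, hWK⟩ := hb.mem_nhds_iff.mp hK
  obtain ⟨H, h1, h2, h3⟩ := exists_openAddSubgroup_subset_compact
    (hKc.of_isClosed_subset hW.1 hWK) hW.2 h0W
  exact ⟨H, h1, h2, h3.trans (hWK.trans hKO)⟩

end VanDantzig

section Quot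

variable {A : Type u} [AddCommGroup A] [TopologicalSpace A] [IsTopologicalAddGroup A]

theorem profinite_quotient [CompactSpace A] [T2Space A] [TotallyDisconnectedSpace A]
    (B : AddSubgroup A) (hB : IsCompact (B : Set A)) :
    CompactSpace (A ⧸ B) ∧ T2Space (A ⧸ B) ∧ TotallyDisconnectedSpace (A ⧸ B) := by
  have hcl : IsClosed (B : Set A) := hB.isClosed
  have : IsClosed (B : Set A) := hcl
  have h2 : T2Space (A ⧸ B) := by
    have := hcl
    infer_instance
  refine ⟨inferInstance, h2, ?_⟩
  -- totally separated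
  have hsep : TotallySeparatedSpace (A ⧸ B) := by
    rw [totallySeparatedSpace_iff_exists_isClopen]
    intro x y hxy
    obtain ⟨a, rfl⟩ := QuotientAddGroup.mk_surjective x
    obtain ⟨b, rfl⟩ := QuotientAddGroup.mk_surjective y
    -- the complement of b - a + B
    have hO : {t : A | a - b + t ∉ B} ∈ 𝓝 (0 : A) := by
      have hopen : IsOpen {t : A | a - b + t ∉ B} := by
        have : IsClosed {t : A | a - b + t ∈ B} := hcl.preimage (continuous_const.add continuous_id)
        exact this.isOpen_compl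
      apply hopen.mem_nhds
      intro hmem
      apply hxy
      rw [add_zero] at hmem
      rw [QuotientAddGroup.eq]
      have : -a + b = -(a - b) := by abel
      rw [this]
      exact B.neg_mem hmem
    obtain ⟨H, hHo, -, hHO⟩ := exists_compact_openAddSubgroup hO
    let q : A →+ A ⧸ B := QuotientAddGroup.mk' B
    have hqo : IsOpenMap q := QuotientAddGroup.isOpenMap_coe
    let HB : AddSubgroup (A ⧸ B) := H.map q
    have hHBo : IsOpen (HB : Set (A ⧸ B)) := by
      have := hqo _ hHo
      simpa [HB] using this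
    refine ⟨{z | z - q a ∈ HB}, ⟨?_, ?_⟩, ?_, ?_⟩
    · exact (HB.isClosed_of_isOpen hHBo).preimage (continuous_id.sub continuous_const)
    · exact hHBo.preimage (continuous_id.sub continuous_const)
    · change q a - q a ∈ HB
      rw [sub_self]
      exact zero_mem _
    · intro hmem
      change q b - q a ∈ HB at hmem
      obtain ⟨h, hh, hhe⟩ := hmem
      have h1 : h ∈ {t : A | a - b + t ∉ B} := hHO hh
      apply h1
      have h2 : q (a - b + h) = 0 := by
        rw [map_add, map_sub, hhe]
        abel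
      exact (QuotientAddGroup.eq_zero_iff _).mp h2
  infer_instance

end Quot

section Characters

/-- `ℚ/ℤ` is injective. -/
theorem exists_extension {A : Type u} {B : Type v} [AddCommGroup A] [AddCommGroup B]
    (i : A →+ B) (hinj : Function.Injective i)
    (χ : A →+ ℚ ⧸ AddSubgroup.zmultiples (1 : ℚ)) :
    ∃ ψ : B →+ ℚ ⧸ AddSubgroup.zmultiples (1 : ℚ), ψ.comp i = χ := by
  obtain ⟨ψ, hψ⟩ := CharacterModule.dual_surjective_of_injective (R := ℤ)
    i.toIntLinearMap hinj (show CharacterModule A from χ)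
  refine ⟨ψ, ?_⟩
  ext a
  exact DFunLike.congr_fun hψ a

/-- A homomorphism defined on `A`, with kernel containing `i⁻¹ U`, extends to a homomorphism of
`B` which kills `U`. -/
theorem exists_extension_vanishing {A : Type u} {B : Type v} [AddCommGroup A] [AddCommGroup B]
    (i : A →+ B) (U : AddSubgroup B)
    (χ : A →+ ℚ ⧸ AddSubgroup.zmultiples (1 : ℚ)) (hU : U.comap i ≤ χ.ker) :
    ∃ ψ : B →+ ℚ ⧸ AddSubgroup.zmultiples (1 : ℚ), U ≤ ψ.ker ∧ ψ.comp i = χ := by
  -- `A / i⁻¹U` injects into `B / U`
  let j : A ⧸ (U.comap i) →+ B ⧸ U := QuotientAddGroup.map _ _ i le_rfl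
  have hj : Function.Injective j := by
    rw [injective_iff_map_eq_zero]
    intro x hx
    obtain ⟨a, rfl⟩ := QuotientAddGroup.mk_surjective x
    have : i a ∈ U := (QuotientAddGroup.eq_zero_iff _).mp hx
    exact (QuotientAddGroup.eq_zero_iff _).mpr this
  let χ' : A ⧸ (U.comap i) →+ ℚ ⧸ AddSubgroup.zmultiples (1 : ℚ) :=
    QuotientAddGroup.lift _ χ (fun x hx => hU hx)
  obtain ⟨ψ', hψ'⟩ := exists_extension j hj χ'
  refine ⟨ψ'.comp (QuotientAddGroup.mk' U), ?_, ?_⟩
  · intro u hu
    rw [AddMonoidHom.mem_ker, AddMonoidHom.comp_apply]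
    have : QuotientAddGroup.mk' U u = 0 := (QuotientAddGroup.eq_zero_iff _).mpr hu
    rw [this, map_zero]
  · ext a
    have := DFunLike.congr_fun hψ' (QuotientAddGroup.mk a)
    exact this

theorem isOpen_of_le {B : Type u} [AddCommGroup B] [TopologicalSpace B] [IsTopologicalAddGroup B]
    {U V : AddSubgroup B} (hUV : U ≤ V) (hU : IsOpen (U : Set B)) : IsOpen (V : Set B) :=
  AddSubgroup.isOpen_mono hUV hU

end Characters

section CompactlyGenerated

variable {B : Type u} [AddCommGroup B] [TopologicalSpace B] [IsTopologicalAddGroup B]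

/-- The quotient of a compactly generated group by an open subgroup is finitely generated. -/
theorem fg_quotient (hcg : ∃ K : Set B, IsCompact K ∧ AddSubgroup.closure K = ⊤)
    (U : AddSubgroup B) (hU : IsOpen (U : Set B)) : AddGroup.FG (B ⧸ U) := by
  obtain ⟨K, hK, hKtop⟩ := hcg
  have hdisc : DiscreteTopology (B ⧸ U) := QuotientAddGroup.discreteTopology hU
  have hcomp : IsCompact ((QuotientAddGroup.mk' U) '' K) :=
    hK.image QuotientAddGroup.continuous_mk
  have hfin : ((QuotientAddGroup.mk' U) '' K).Finite := isCompact_iff_finite.mp hcomp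
  rw [AddGroup.fg_iff]
  refine ⟨_, ?_, hfin⟩
  rw [← AddMonoidHom.map_closure, hKtop, ← AddMonoidHom.range_eq_map]
  exact AddMonoidHom.range_eq_top.mpr (QuotientAddGroup.mk'_surjective U)

theorem finiteIndex_ker (hcg : ∃ K : Set B, IsCompact K ∧ AddSubgroup.closure K = ⊤)
    (χ : B →+ ℚ ⧸ AddSubgroup.zmultiples (1 : ℚ)) (hχ : IsOpen (χ.ker : Set B)) :
    χ.ker.FiniteIndex := by
  have hfg := fg_quotient hcg χ.ker hχ
  have hinj := QuotientAddGroup.kerLift_injective χ
  have hfin : Finite (B ⧸ χ.ker) := by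
    apply AddCommGroup.finite_of_fg_isAddTorsion
    intro x
    rw [isOfFinAddOrder_iff_nsmul_eq_zero]
    obtain ⟨q, hq⟩ := QuotientAddGroup.mk_surjective (QuotientAddGroup.kerLift χ x)
    refine ⟨q.den, q.den_pos, hinj ?_⟩
    rw [map_nsmul, map_zero, ← hq, ← QuotientAddGroup.mk_nsmul, QuotientAddGroup.eq_zero_iff,
      AddSubgroup.mem_zmultiples_iff]
    refine ⟨q.num, ?_⟩
    rw [zsmul_eq_mul, mul_one, nsmul_eq_mul, mul_comm]
    exact (Rat.mul_den_eq_num q).symm
  exact AddSubgroup.finiteIndex_of_finite_quotient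

/-- compactly generated locally compact totally disconnected groups: open subgroups of finite
index separate points -/
theorem exists_isOpen_finiteIndex_not_mem [T2Space B] [LocallyCompactSpace B]
    [TotallyDisconnectedSpace B]
    (hcg : ∃ K : Set B, IsCompact K ∧ AddSubgroup.closure K = ⊤) (b : B) (hb : b ≠ 0) :
    ∃ B' : AddSubgroup B, IsOpen (B' : Set B) ∧ B'.FiniteIndex ∧ b ∉ B' := by
  obtain ⟨U, hUo, -, hUb⟩ := exists_compact_openAddSubgroup (G := B) (O := {b}ᶜ)
    (isOpen_compl_singleton.mem_nhds (by simpa using hb.symm))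
  have hfg := fg_quotient hcg U hUo
  have hbU : b ∉ U := fun h => hUb h rfl
  obtain ⟨C, hC, hbC⟩ := K773.AbGrp.exists_finiteIndex_of_fg (QuotientAddGroup.mk b : B ⧸ U) (by
    rw [Ne, QuotientAddGroup.eq_zero_iff]
    exact hbU)
  refine ⟨C.comap (QuotientAddGroup.mk' U), ?_, ?_, hbC⟩
  · apply isOpen_of_le (U := U) _ hUo
    intro u hu
    rw [AddSubgroup.mem_comap]
    have : QuotientAddGroup.mk' U u = 0 := (QuotientAddGroup.eq_zero_iff _).mpr hu
    rw [this]
    exact zero_mem _
  · refine ⟨?_⟩
    rw [AddSubgroup.index_comap]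
    have := hC
    exact AddSubgroup.FiniteIndex.index_ne_zero

/-- the key separation statement for closed strict subgroups -/
theorem exists_open_finiteIndex_comap_le {A : Type v} [AddCommGroup A] [TopologicalSpace A]
    [IsTopologicalAddGroup A] [T2Space B] [LocallyCompactSpace B] [TotallyDisconnectedSpace B]
    (hcg : ∃ K : Set B, IsCompact K ∧ AddSubgroup.closure K = ⊤)
    (i : A →+ B) (hind : IsInducing i)
    (W : AddSubgroup A) (hWo : IsOpen (W : Set A)) (hWf : W.FiniteIndex) :
    ∃ V : AddSubgroup B, IsOpen (V : Set B) ∧ V.FiniteIndex ∧ V.comap i ≤ W := by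
  classical
  obtain ⟨O, hO, hOW⟩ := hind.isOpen_iff.mp hWo
  have h0O : (0 : B) ∈ O := by
    have : (0 : A) ∈ i ⁻¹' O := by rw [hOW]; exact zero_mem W
    simpa using this
  obtain ⟨U, hUo, -, hUO⟩ := exists_compact_openAddSubgroup (G := B) (hO.mem_nhds h0O)
  have hUW : U.comap i ≤ W := by
    intro a ha
    have : a ∈ i ⁻¹' O := hUO ha
    rw [hOW] at this
    exact this
  -- the subgroup i(W) + U
  let M : AddSubgroup B := W.map i ⊔ U
  have hMo : IsOpen (M : Set B) := isOpen_of_le le_sup_right hUo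
  have hfg := fg_quotient hcg M hMo
  have hMW : M.comap i ≤ W := by
    intro a ha
    rw [AddSubgroup.mem_comap, AddSubgroup.mem_sup] at ha
    obtain ⟨y, ⟨w, hw, rfl⟩, z, hz, hyz⟩ := ha
    have h1 : i (a - w) ∈ U := by
      rw [map_sub, ← hyz, add_sub_cancel_left]
      exact hz
    have h2 : a - w ∈ W := hUW h1
    have := W.add_mem h2 hw
    rwa [sub_add_cancel] at this
  -- the image of `A` in `B / M` is finite
  let f : A →+ B ⧸ M := (QuotientAddGroup.mk' M).comp i
  have hfW : W ≤ f.ker := by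
    intro w hw
    rw [AddMonoidHom.mem_ker]
    exact (QuotientAddGroup.eq_zero_iff _).mpr (AddSubgroup.mem_sup_left ⟨w, hw, rfl⟩)
  have hfin : (Set.range f).Finite := by
    have hfinq : Finite (A ⧸ W) := by
      have := hWf
      exact AddSubgroup.finite_quotient_of_finiteIndex
    have hsub : Set.range f ⊆ Set.range (QuotientAddGroup.lift W f hfW) := by
      rintro _ ⟨a, rfl⟩
      exact ⟨QuotientAddGroup.mk a, rfl⟩
    exact (Set.finite_range _).subset hsub
  obtain ⟨C, hC, hCs⟩ := K773.AbGrp.exists_finiteIndex_disjoint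
    (fun a ha => K773.AbGrp.exists_finiteIndex_of_fg (A := B ⧸ M) a ha) _ hfin
  refine ⟨C.comap (QuotientAddGroup.mk' M), ?_, ?_, ?_⟩
  · apply isOpen_of_le (U := M) _ hMo
    intro u hu
    rw [AddSubgroup.mem_comap]
    have : QuotientAddGroup.mk' M u = 0 := (QuotientAddGroup.eq_zero_iff _).mpr hu
    rw [this]
    exact zero_mem _
  · refine ⟨?_⟩
    rw [AddSubgroup.index_comap]
    have := hC
    exact AddSubgroup.FiniteIndex.index_ne_zero
  · intro a ha
    have h1 : f a = 0 := hCs (f a) ⟨a, rfl⟩ ha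
    have h2 : i a ∈ M := (QuotientAddGroup.eq_zero_iff (i a)).mp h1
    exact hMW h2

end CompactlyGenerated

end K773.Top
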